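/-
Stem extensions of groups generated by two elements `a`, `x` with `x a x⁻¹ = a⁻¹`.
* `ker_le_zpowers` : with lifts `A`, `X`, the kernel lies in the cyclic group of the commutator `X A X⁻¹ A⁻¹`
* `pow_comm_eq_one` : that commutator has order dividing `n` if `σ A ^ n` is fixed by `σ X` suitably
* `exists_surjective_hom_of_subsingleton` / `hasCyclic_one`
-/
import Cfsg.Agent.EqLemmas

open scoped commutatorElement

namespace Cfsg.Agent.StemTwoGen

variable {Γ Q : Type*} [Group Γ] [Group Q]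

theorem ker_le_zpowers {σ : Γ →* Q} (hσ : Cfsg.IsStemExtension σ) (A X : Γ)
    (hgen : Subgroup.closure {σ A, σ X} = ⊤) (hrel : σ X * σ A * (σ X)⁻¹ = (σ A)⁻¹) :
    σ.ker ≤ Subgroup.zpowers (X * A * X⁻¹ * A⁻¹) := by
  obtain ⟨hs, hc, hd⟩ := hσ
  set c := X * A * X⁻¹ * A⁻¹ with hcdef
  have hz : X * A * X⁻¹ * A ∈ Subgroup.center Γ := hc (by
    rw [MonoidHom.mem_ker, map_mul, map_mul, map_mul, map_inv, hrel, inv_mul_cancel])
  set z := X * A * X⁻¹ * A with hzdef
  have hXA : X * A * X⁻¹ = z * A⁻¹ := by rw [hzdef]; group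
  have hcz : c = z * (A⁻¹ * A⁻¹) := by rw [hcdef, hXA]; group
  have htop : ∀ K : Subgroup Γ, A ∈ K → X ∈ K → σ.ker ≤ K → K = ⊤ := by
    intro K hA hX hk
    refine eq_top_iff.mpr (fun g _ => ?_)
    have h1 : K.map σ = ⊤ := by
      rw [eq_top_iff, ← hgen, Subgroup.closure_le]
      rintro _ (rfl | rfl)
      exacts [⟨A, hA, rfl⟩, ⟨X, hX, rfl⟩]
    obtain ⟨k, hk', he⟩ : σ g ∈ K.map σ := h1 ▸ Subgroup.mem_top _
    have : k⁻¹ * g ∈ K := hk (by rw [MonoidHom.mem_ker, map_mul, map_inv, he, inv_mul_cancel])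
    simpa using K.mul_mem hk' this
  have hcA : Commute A c := by
    rw [hcz]
    exact (Commute.mul_right (Subgroup.mem_center_iff.mp hz A) (((Commute.refl A).inv_right).mul_right (Commute.refl A).inv_right))
  have hAz : ∀ g, g * z = z * g := Subgroup.mem_center_iff.mp hz
  have hXc : X * c * X⁻¹ = c⁻¹ := by
    rw [hcz, mul_inv_rev, mul_inv_rev, inv_inv]
    calc X * (z * (A⁻¹ * A⁻¹)) * X⁻¹ = (X * z) * (A⁻¹ * A⁻¹) * X⁻¹ := by group
      _ = z * X * (A⁻¹ * A⁻¹) * X⁻¹ := by rw [hAz X]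
      _ = z * ((X * A * X⁻¹)⁻¹ * (X * A * X⁻¹)⁻¹) := by group
      _ = z * ((A * z⁻¹) * (A * z⁻¹)) := by rw [hXA]; group
      _ = z * (z⁻¹ * A * (A * z⁻¹)) := by
            rw [((show Commute A z from hAz A).inv_right).eq]
      _ = A * A * z⁻¹ := by group
  have hN : (Subgroup.zpowers c).Normal := by
    rw [← Subgroup.normalizer_eq_top_iff]
    refine htop _ ?_ ?_ ?_
    · refine Subgroup.centralizer_le_normalizer _ ?_
      rw [Subgroup.mem_centralizer_iff]
      intro h hh
      obtain ⟨k, rfl⟩ := Subgroup.mem_zpowers_iff.mp hh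
      exact ((hcA.zpow_right k).symm).eq
    · rw [Subgroup.mem_normalizer_iff]
      intro h
      constructor
      · intro hh
        obtain ⟨k, rfl⟩ := Subgroup.mem_zpowers_iff.mp hh
        rw [← conj_zpow, hXc]
        exact Subgroup.zpow_mem _ (Subgroup.inv_mem _ (Subgroup.mem_zpowers c)) k
      · intro hh
        obtain ⟨k, hk⟩ := Subgroup.mem_zpowers_iff.mp hh
        refine Subgroup.mem_zpowers_iff.mpr ⟨-k, ?_⟩
        have e : (X * c * X⁻¹) ^ (-k) = X * h * X⁻¹ := by rw [hXc, inv_zpow, zpow_neg, inv_inv, hk]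
        rw [conj_zpow] at e
        exact mul_left_cancel (mul_right_cancel e)
    · exact fun g hg => Subgroup.centralizer_le_normalizer _ (Subgroup.center_le_centralizer _ (hc hg))
  have hcomm : commutator Γ ≤ Subgroup.zpowers c := by
    let π := QuotientGroup.mk' (Subgroup.zpowers c)
    have hc1 : π c = 1 := (QuotientGroup.eq_one_iff c).mpr (Subgroup.mem_zpowers c)
    have hAX : π A * π X = π X * π A := by
      replace hc1 : π (X * A * X⁻¹ * A⁻¹) = 1 := hc1
      rw [map_mul, map_mul, map_mul, map_inv, map_inv] at hc1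
      have := congrArg (fun t => t * π A * π X) hc1
      simpa [mul_assoc] using this.symm
    have hk : σ.ker ≤ (Subgroup.center _).comap π := fun g hg => by
      rw [Subgroup.mem_comap, Subgroup.mem_center_iff]
      intro y
      obtain ⟨y, rfl⟩ := QuotientGroup.mk'_surjective _ y
      rw [← map_mul, ← map_mul, Subgroup.mem_center_iff.mp (hc hg) y]
    have hgen' : ∀ u : Γ, ∀ w : Γ, (w = A ∨ w = X) → Commute (π w) (π u) := by
      intro u w hw
      have h2 : (Subgroup.centralizer ({π w} : Set (Γ ⧸ Subgroup.zpowers c))).comap π = ⊤ := by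
        refine htop _ ?_ ?_ ?_
        · rw [Subgroup.mem_comap, Subgroup.mem_centralizer_singleton_iff]
          rcases hw with rfl | rfl
          · rfl
          · exact hAX
        · rw [Subgroup.mem_comap, Subgroup.mem_centralizer_singleton_iff]
          rcases hw with rfl | rfl
          · exact hAX.symm
          · rfl
        · exact hk.trans (Subgroup.comap_mono (Subgroup.center_le_centralizer _))
      have : u ∈ (Subgroup.centralizer ({π w} : Set (Γ ⧸ Subgroup.zpowers c))).comap π := h2 ▸ Subgroup.mem_top u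
      rw [Subgroup.mem_comap, Subgroup.mem_centralizer_singleton_iff] at this
      exact this.symm
    have hall : (Subgroup.center _).comap π = ⊤ := by
      refine htop _ ?_ ?_ hk
      all_goals
        rw [Subgroup.mem_comap, Subgroup.mem_center_iff]
        intro y
        obtain ⟨y, rfl⟩ := QuotientGroup.mk'_surjective _ y
      · exact (hgen' y A (Or.inl rfl)).eq.symm
      · exact (hgen' y X (Or.inr rfl)).eq.symm
    rw [commutator_def, Subgroup.commutator_le]
    intro u _ v _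
    rw [← QuotientGroup.eq_one_iff]
    show π ⁅u, v⁆ = 1
    rw [map_commutatorElement, commutatorElement_eq_one_iff_commute]
    have : u ∈ (Subgroup.center _).comap π := hall ▸ Subgroup.mem_top u
    exact (Subgroup.mem_center_iff.mp this (π v)).symm
  exact hd.trans hcomm

/-- `c ^ n = 1` for `c = X A X⁻¹ A⁻¹`, as soon as `X A X⁻¹ A` is central and `X` commutes with `A ^ n`. -/
theorem pow_comm_eq_one (A X : Γ) (n : ℕ) (hz : X * A * X⁻¹ * A ∈ Subgroup.center Γ) (hXn : Commute X (A ^ n)) :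
    (X * A * X⁻¹ * A⁻¹) ^ n = 1 := by
  set z := X * A * X⁻¹ * A with hzdef
  have hXA : X * A * X⁻¹ = z * A⁻¹ := by rw [hzdef]; group
  have hzA : ∀ g, Commute z g := fun g => (Subgroup.mem_center_iff.mp hz g).symm
  have h1 : X * A ^ n * X⁻¹ = A ^ n := by rw [hXn.eq]; group
  rw [← conj_pow, hXA, (hzA A⁻¹).mul_pow] at h1
  rw [hXA, mul_assoc, (hzA _).mul_pow, ((Commute.refl A⁻¹)).mul_pow, ← mul_assoc, h1, inv_pow, mul_inv_cancel]

theorem ker_le_bot {σ : Γ →* Q} (hσ : Cfsg.IsStemExtension σ) (A X : Γ)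
    (hgen : Subgroup.closure {σ A, σ X} = ⊤) (hrel : σ X * σ A * (σ X)⁻¹ = (σ A)⁻¹) (n : ℕ)
    (hXn : Commute X (A ^ n)) (hord : (2 * n : ℕ) ∣ 2 * orderOf (σ (X * A * X⁻¹ * A⁻¹))) : σ.ker = ⊥ := by
  have hz : X * A * X⁻¹ * A ∈ Subgroup.center Γ := hσ.2.1 (by
    rw [MonoidHom.mem_ker, map_mul, map_mul, map_mul, map_inv, hrel, inv_mul_cancel])
  rw [eq_bot_iff]
  intro g hg
  obtain ⟨j, rfl⟩ := Subgroup.mem_zpowers_iff.mp (ker_le_zpowers hσ A X hgen hrel hg)
  rw [MonoidHom.mem_ker, map_zpow, ← orderOf_dvd_iff_zpow_eq_one] at hg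
  obtain ⟨t, rfl⟩ : (n : ℤ) ∣ j :=
    (Int.natCast_dvd_natCast.mpr (Nat.dvd_of_mul_dvd_mul_left two_pos hord)).trans hg
  rw [Subgroup.mem_bot, zpow_mul, zpow_natCast, pow_comm_eq_one A X n hz hXn, one_zpow]

end Cfsg.Agent.StemTwoGen

namespace Cfsg.Agent.StemTwoGen

universe u

/-- `G` has trivial multiplier as soon as every finite stem extension has trivial kernel. -/
theorem hasCyclic_one {G : Type u} [Group G] [Finite G]
    (h : ∀ (Γ : Type u) [Group Γ] [Finite Γ] (σ : Γ →* G), Cfsg.IsStemExtension σ → σ.ker = ⊥) :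
    Cfsg.HasCyclicSchurMultiplier G 1 := by
  refine ⟨⟨G, inferInstance, inferInstance, MonoidHom.id G, ⟨Function.surjective_id, ?_, ?_⟩, ?_⟩, ?_⟩
  · simp [MonoidHom.ker_id]
  · simp [MonoidHom.ker_id]
  · haveI : Subsingleton (MonoidHom.id G).ker := by rw [MonoidHom.ker_id]; infer_instance
    haveI : Unique (MonoidHom.id G).ker := uniqueOfSubsingleton 1
    exact ⟨MulEquiv.ofUnique⟩
  · intro Γ _ _ σ hσ
    haveI : Subsingleton σ.ker := by rw [h Γ σ hσ]; infer_instance
    exact ⟨1, fun y => ⟨1, Subsingleton.elim _ _⟩⟩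

theorem closure_pair_dihedral (n : ℕ) :
    Subgroup.closure ({DihedralGroup.r 1, DihedralGroup.sr 0} : Set (DihedralGroup n)) = ⊤ := by
  rw [eq_top_iff]
  have hr : ∀ i : ℤ, DihedralGroup.r (i : ZMod n) ∈ Subgroup.closure ({DihedralGroup.r 1, DihedralGroup.sr 0} : Set (DihedralGroup n)) := by
    intro i
    rw [← DihedralGroup.r_one_zpow]
    exact Subgroup.zpow_mem _ (Subgroup.subset_closure (Set.mem_insert _ _)) i
  rintro (i | i) _
  · obtain ⟨j, rfl⟩ := ZMod.intCast_surjective i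
    exact hr j
  · obtain ⟨j, rfl⟩ := ZMod.intCast_surjective i
    have hs0 : DihedralGroup.sr (0 : ZMod n) ∈ Subgroup.closure ({DihedralGroup.r 1, DihedralGroup.sr 0} : Set (DihedralGroup n)) :=
      Subgroup.subset_closure (Or.inr rfl)
    have := Subgroup.mul_mem _ hs0 (hr j)
    simpa [DihedralGroup.sr_mul_r] using this

theorem closure_pair_quaternion (n : ℕ) [NeZero n] :
    Subgroup.closure ({QuaternionGroup.a 1, QuaternionGroup.xa 0} : Set (QuaternionGroup n)) = ⊤ := by
  rw [eq_top_iff]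
  have hr : ∀ i : ℕ, QuaternionGroup.a (i : ZMod (2 * n)) ∈ Subgroup.closure ({QuaternionGroup.a 1, QuaternionGroup.xa 0} : Set (QuaternionGroup n)) := by
    intro i
    rw [← QuaternionGroup.a_one_pow]
    exact Subgroup.pow_mem _ (Subgroup.subset_closure (Set.mem_insert _ _)) i
  rintro (i | i) _
  · rw [← ZMod.natCast_zmod_val i]
    exact hr _
  · have hs0 : QuaternionGroup.xa (0 : ZMod (2 * n)) ∈ Subgroup.closure ({QuaternionGroup.a 1, QuaternionGroup.xa 0} : Set (QuaternionGroup n)) :=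
      Subgroup.subset_closure (Or.inr rfl)
    have := Subgroup.mul_mem _ hs0 (hr i.val)
    simpa [QuaternionGroup.xa_mul_a, ZMod.natCast_zmod_val] using this

theorem dihedral_rel (n : ℕ) :
    (DihedralGroup.sr 0 : DihedralGroup n) * DihedralGroup.r 1 * (DihedralGroup.sr 0)⁻¹ = (DihedralGroup.r 1)⁻¹ := by
  rw [mul_inv_eq_iff_eq_mul, DihedralGroup.sr_mul_r, DihedralGroup.inv_r, DihedralGroup.r_mul_sr]
  simp

theorem quaternion_rel (n : ℕ) :
    (QuaternionGroup.xa 0 : QuaternionGroup n) * QuaternionGroup.a 1 * (QuaternionGroup.xa 0)⁻¹ = (QuaternionGroup.a 1)⁻¹ := by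
  rw [mul_inv_eq_iff_eq_mul, eq_inv_mul_iff_mul_eq, QuaternionGroup.xa_mul_a, QuaternionGroup.a_mul_xa]
  simp

end Cfsg.Agent.StemTwoGen
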